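import Groth.Agent.EtAcyc.K153.TreeDef
import Groth.Agent.EtDl.K119.StageEv

/-!
# Relative tree certificates over a limit come from a finite stage

Let `lim D` be a cofiltered limit of affine Noetherian schemes, the limit being Noetherian. If `X₀` is of finite
presentation over a stage `D i₀`, `V₀` is open in `X₀` and `X = X₀ ×_{D i₀} lim D` has a tree certificate over
`lim D` for the preimage of `V₀`, then for all large `i` the stage `Xᵢ = X₀ ×_{D i₀} Dᵢ` has a tree certificate over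
`Dᵢ` for the preimage of `V₀`.
-/

set_option autoImplicit false
universe u

open CategoryTheory CategoryTheory.Limits AlgebraicGeometry

namespace K922.TreeSpread

open K153.TreeDef K119.StageEv

variable {I : Type u} [SmallCategory I]

section EvT

variable (D : I ⥤ Scheme.{u}) {i₀ : I} {X₀ : Scheme.{u}} (p₀ : X₀ ⟶ D.obj i₀)

/-- For all large stages, with the structure morphism in the predicate. -/
def EvT (P : ∀ (i : I) (Xi : Scheme.{u}), (Xi ⟶ X₀) → (Xi ⟶ D.obj i) → Prop) : Prop :=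
  ∃ (i₁ : I) (φ : i₁ ⟶ i₀), ∀ (i : I) (ψ : i ⟶ i₁) (Xi : Scheme.{u}) (ai : Xi ⟶ X₀) (pi : Xi ⟶ D.obj i),
    IsPullback ai pi p₀ (D.map (ψ ≫ φ)) → P i Xi ai pi

variable {D p₀} {P Q : ∀ (i : I) (Xi : Scheme.{u}), (Xi ⟶ X₀) → (Xi ⟶ D.obj i) → Prop}

theorem EvT.mono (h : EvT D p₀ P)
    (hPQ : ∀ (i : I) (φ : i ⟶ i₀) (Xi : Scheme.{u}) (ai : Xi ⟶ X₀) (pi : Xi ⟶ D.obj i),
      IsPullback ai pi p₀ (D.map φ) → P i Xi ai pi → Q i Xi ai pi) :
    EvT D p₀ Q := by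
  obtain ⟨i₁, φ₁, h⟩ := h
  exact ⟨i₁, φ₁, fun i φ Xi ai pi h1 => hPQ i _ Xi ai pi h1 (h i φ Xi ai pi h1)⟩

theorem EvT.forall_finite [IsCofiltered I] {K : Type} [Finite K]
    {P : K → ∀ (i : I) (Xi : Scheme.{u}), (Xi ⟶ X₀) → (Xi ⟶ D.obj i) → Prop} (h : ∀ k, EvT D p₀ (P k)) :
    EvT D p₀ (fun i Xi ai pi => ∀ k, P k i Xi ai pi) := by
  choose i₁ φ₁ h using h
  obtain ⟨j, f, g, hg⟩ := IsCofiltered.wideCospan φ₁
  refine ⟨j, f, fun i φ Xi ai pi h1 k => ?_⟩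
  refine h k i (φ ≫ g k) Xi ai pi ?_
  rwa [Category.assoc, hg k]

theorem EvT.and [IsCofiltered I] (h : EvT D p₀ P) (h' : EvT D p₀ Q) :
    EvT D p₀ (fun i Xi ai pi => P i Xi ai pi ∧ Q i Xi ai pi) := by
  obtain ⟨i₁, φ₁, h⟩ := h
  obtain ⟨i₂, φ₂, h'⟩ := h'
  obtain ⟨j, f, g, hg⟩ := IsCofiltered.cospan φ₁ φ₂
  refine ⟨j, f ≫ φ₁, fun i φ Xi ai pi h1 => ⟨?_, ?_⟩⟩
  · refine h i (φ ≫ f) Xi ai pi ?_
    rwa [Category.assoc]
  · refine h' i (φ ≫ g) Xi ai pi ?_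
    rwa [Category.assoc, ← hg]

/-- Replace the stage `i₀` by a later one. -/
theorem EvT.shift {i₁ : I} (φ₁ : i₁ ⟶ i₀) {X₁ : Scheme.{u}} (r : X₁ ⟶ X₀) (p₁ : X₁ ⟶ D.obj i₁)
    (h : IsPullback r p₁ p₀ (D.map φ₁))
    (hE : EvT D p₁ (fun i Xi ai pi => P i Xi (ai ≫ r) pi)) : EvT D p₀ P := by
  obtain ⟨i₂, φ₂, hE⟩ := hE
  refine ⟨i₂, φ₂ ≫ φ₁, fun i φ Xi ai pi h1 => ?_⟩
  have e1 : ai ≫ p₀ = (pi ≫ D.map (φ ≫ φ₂)) ≫ D.map φ₁ := by
    rw [h1.w, Category.assoc, ← D.map_comp, Category.assoc]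
  let ai' : Xi ⟶ X₁ := h.lift ai (pi ≫ D.map (φ ≫ φ₂)) e1
  have h4 : ai' ≫ r = ai := h.lift_fst _ _ _
  have h5 : ai' ≫ p₁ = pi ≫ D.map (φ ≫ φ₂) := h.lift_snd _ _ _
  have h6 : IsPullback ai' pi p₁ (D.map (φ ≫ φ₂)) := by
    refine IsPullback.of_right (h₁₂ := r) (h₂₂ := D.map φ₁) ?_ h5 h
    rw [h4, ← D.map_comp]
    simpa only [Category.assoc] using h1
  have h8 : P i Xi (ai' ≫ r) pi := hE i φ Xi ai' pi h6
  rwa [h4] at h8

/-- Schemes over `X₀`. -/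
theorem EvT.over {Y₀ : Scheme.{u}} (f₀ : Y₀ ⟶ X₀)
    {Q : ∀ (i : I) (Xi : Scheme.{u}), (Xi ⟶ Y₀) → (Xi ⟶ D.obj i) → Prop} (h : EvT D (f₀ ≫ p₀) Q) :
    EvT D p₀ (fun i Xi ai pi => ∀ (Yi : Scheme.{u}) (gi : Yi ⟶ Y₀) (fi : Yi ⟶ Xi),
      IsPullback gi fi f₀ ai → Q i Yi gi (fi ≫ pi)) := by
  obtain ⟨i₁, φ₁, h⟩ := h
  refine ⟨i₁, φ₁, fun i φ Xi ai pi h1 Yi gi fi k1 => ?_⟩
  exact h i φ Yi gi (fi ≫ pi) (k1.paste_vert h1)

/-- From eventual properties with the morphism from the limit. -/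
theorem EvT.of_ev {c : Cone D} {X : Scheme.{u}} {a : X ⟶ X₀} {b : X ⟶ c.pt} (hw : a ≫ p₀ = b ≫ c.π.app i₀)
    {P : ∀ Xi : Scheme.{u}, (Xi ⟶ X₀) → (X ⟶ Xi) → Prop} (h : Ev D c p₀ a b P) :
    EvT D p₀ (fun _ Xi ai _ => ∃ u : X ⟶ Xi, P Xi ai u) := by
  obtain ⟨i₁, φ₁, h⟩ := h
  refine ⟨i₁, φ₁, fun i φ Xi ai pi h1 => ?_⟩
  have hw' : a ≫ p₀ = (b ≫ c.π.app i) ≫ D.map (φ ≫ φ₁) := by rw [Category.assoc, c.w, hw]
  exact ⟨h1.lift a (b ≫ c.π.app i) hw', h i φ Xi ai pi _ h1 (h1.lift_fst _ _ _) (h1.lift_snd _ _ _)⟩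

/-- Instantiate an eventual property at a stage. -/
theorem exists_stage {c : Cone D} {X : Scheme.{u}} {a : X ⟶ X₀} {b : X ⟶ c.pt}
    {P : ∀ Xi : Scheme.{u}, (Xi ⟶ X₀) → (X ⟶ Xi) → Prop} (hX : IsPullback a b p₀ (c.π.app i₀))
    (h : Ev D c p₀ a b P) : ∃ (i₁ : I) (φ₁ : i₁ ⟶ i₀) (X₁ : Scheme.{u}) (r : X₁ ⟶ X₀) (p₁ : X₁ ⟶ D.obj i₁)
      (a₁ : X ⟶ X₁), IsPullback r p₁ p₀ (D.map φ₁) ∧ a₁ ≫ r = a ∧ a₁ ≫ p₁ = b ≫ c.π.app i₁ ∧ P X₁ r a₁ := by
  obtain ⟨i₁, φ₁, h⟩ := h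
  have h1 : IsPullback (pullback.fst p₀ (D.map φ₁)) (pullback.snd p₀ (D.map φ₁)) p₀ (D.map φ₁) :=
    .of_hasPullback _ _
  have hw : a ≫ p₀ = (b ≫ c.π.app i₁) ≫ D.map φ₁ := by rw [Category.assoc, c.w, hX.w]
  refine ⟨i₁, φ₁, _, _, _, pullback.lift a (b ≫ c.π.app i₁) hw, h1, pullback.lift_fst _ _ _,
    pullback.lift_snd _ _ _, ?_⟩
  refine h i₁ (𝟙 _) _ _ (pullback.snd p₀ (D.map φ₁)) _ ?_ (pullback.lift_fst _ _ _) (pullback.lift_snd _ _ _)
  rw [Category.id_comp]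
  exact h1

end EvT

theorem noeth_of_lft {X S : Scheme.{u}} [IsNoetherian S] (f : X ⟶ S) [LocallyOfFiniteType f] [QuasiCompact f] :
    IsNoetherian X := by
  have h1 : IsLocallyNoetherian X := LocallyOfFiniteType.isLocallyNoetherian f
  have h2 : CompactSpace X := QuasiCompact.compactSpace_of_compactSpace f
  exact {}

/-- The base change of a morphism to the affine space. -/
theorem isPullback_homOfVector {S T X Y : Scheme.{u}} {n : Type u} (f : S ⟶ T) (p : Y ⟶ T) (q : X ⟶ S) (g : X ⟶ Y)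
    (h : IsPullback g q p f) (t : n → Γ(Y, ⊤)) :
    IsPullback g (AffineSpace.homOfVector q (g.appTop ∘ t)) (AffineSpace.homOfVector p t) (AffineSpace.map n f) := by
  have h1 := AffineSpace.isPullback_map (n := n) f
  refine IsPullback.of_bot (h₁₁ := g) (h₂₁ := AffineSpace.map n f) (h₃₁ := f) (v₂₁ := AffineSpace n S ↘ S)
    (v₂₂ := AffineSpace n T ↘ T) ?_ ?_ h1
  · rw [AffineSpace.homOfVector_over, AffineSpace.homOfVector_over]
    exact h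
  · apply AffineSpace.hom_ext
    · rw [Category.assoc, Category.assoc, AffineSpace.homOfVector_over, AffineSpace.map_over,
        AffineSpace.homOfVector_over_assoc]
      exact h.w
    · intro i
      simp

section Main

variable {D : I ⥤ Scheme.{u}} {c : Cone D}

variable (D c)

/-- The conclusion for a node. -/
def Concl {i₀ : I} {X₀ : Scheme.{u}} (p₀ : X₀ ⟶ D.obj i₀) (V₀ : X₀.Opens) : Prop :=
  EvT D p₀ (fun i Xi ai pi => Tree (D.obj i) Xi pi (ai ⁻¹ᵁ V₀))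

/-- The claim of the induction. -/
def Claim (X : Scheme.{u}) (f : X ⟶ c.pt) (V : X.Opens) : Prop :=
  ∀ (i₀ : I) (X₀ : Scheme.{u}) (p₀ : X₀ ⟶ D.obj i₀) (_ : LocallyOfFinitePresentation p₀) (_ : QuasiCompact p₀)
    (_ : QuasiSeparated p₀) (a : X ⟶ X₀) (_ : IsPullback a f p₀ (c.π.app i₀)) (V₀ : X₀.Opens),
    a ⁻¹ᵁ V₀ = V → Concl D p₀ V₀

variable {D c}

/-- Passage to a later stage. -/
theorem Concl.shift {i₀ i₁ : I} {X₀ X₁ : Scheme.{u}} {p₀ : X₀ ⟶ D.obj i₀}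
    {V₀ : X₀.Opens} (φ₁ : i₁ ⟶ i₀) (r : X₁ ⟶ X₀) (p₁ : X₁ ⟶ D.obj i₁)
    (h : IsPullback r p₁ p₀ (D.map φ₁)) (hE : Concl D p₁ (r ⁻¹ᵁ V₀)) : Concl D p₀ V₀ := by
  refine EvT.shift φ₁ r p₁ h (EvT.mono hE ?_)
  rintro i φ Xi ai pi - h1
  rw [Scheme.Hom.comp_preimage]
  exact h1

variable [IsCofiltered I] [∀ (i j : I) (f : i ⟶ j), IsAffineHom (D.map f)] [∀ i, IsAffine (D.obj i)]
  [∀ i, IsNoetherian (D.obj i)] [IsNoetherian c.pt] (hc : IsLimit c)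

include hc

omit [AlgebraicGeometry.IsNoetherian c.pt] in
/-- Étale morphisms to an affine space at a finite stage. -/
theorem evT_etale {i₀ : I} {X₀ X : Scheme.{u}} {p₀ : X₀ ⟶ D.obj i₀} [LocallyOfFinitePresentation p₀]
    [QuasiCompact p₀] [QuasiSeparated p₀] {a : X ⟶ X₀} {f : X ⟶ c.pt} (hX : IsPullback a f p₀ (c.π.app i₀))
    {n : Type u} [Finite n] (t : n → Γ(X₀, ⊤)) (h : Etale (AffineSpace.homOfVector f (a.appTop ∘ t))) :
    EvT D p₀ (fun _ _ ai pi => Etale (AffineSpace.homOfVector pi (ai.appTop ∘ t))) := by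
  have hN0 : IsNoetherian X₀ := noeth_of_lft p₀
  have hNA : IsNoetherian (AffineSpace n (D.obj i₀)) := noeth_of_lft (AffineSpace n (D.obj i₀) ↘ D.obj i₀)
  have hlft : LocallyOfFiniteType (AffineSpace.homOfVector p₀ t) := by
    have : LocallyOfFiniteType (AffineSpace.homOfVector p₀ t ≫ AffineSpace n (D.obj i₀) ↘ D.obj i₀) := by
      rw [AffineSpace.homOfVector_over]
      infer_instance
    exact locallyOfFiniteType_of_comp _ (AffineSpace n (D.obj i₀) ↘ D.obj i₀)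
  have hlfp : LocallyOfFinitePresentation (AffineSpace.homOfVector p₀ t) :=
    LocallyOfFinitePresentation.iff_locallyOfFiniteType.mpr inferInstance
  obtain ⟨i, φ, Xi, Yi, fi, gi, pY, pX, k1, k2, k3⟩ := Groth.Agent.S9192.result D c hc i₀
    (AffineSpace.homOfVector p₀ t) (AffineSpace n (D.obj i₀) ↘ D.obj i₀)
    (AffineSpace.homOfVector f (a.appTop ∘ t)) (AffineSpace n c.pt ↘ c.pt) (AffineSpace.map n (c.π.app i₀)) a
    (AffineSpace.isPullback_map _) (isPullback_homOfVector _ _ _ _ hX t)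
  refine ⟨i, φ, fun j ψ Xj aj pj h1 => ?_⟩
  -- the stage `j` is a base change of the stage `i`
  have e0 : IsPullback (AffineSpace.map n (D.map (ψ ≫ φ))) (AffineSpace n (D.obj j) ↘ D.obj j)
      (AffineSpace n (D.obj i₀) ↘ D.obj i₀) (D.map (ψ ≫ φ)) := AffineSpace.isPullback_map _
  have e1 : AffineSpace.map n (D.map (ψ ≫ φ)) ≫ AffineSpace n (D.obj i₀) ↘ D.obj i₀ =
      ((AffineSpace n (D.obj j) ↘ D.obj j) ≫ D.map ψ) ≫ D.map φ := by
    rw [e0.w, Category.assoc, ← D.map_comp]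
  let w : AffineSpace n (D.obj j) ⟶ Yi := k1.lift _ _ e1
  have hw : w ≫ pY = AffineSpace.map n (D.map (ψ ≫ φ)) := k1.lift_fst _ _ _
  have e2 := isPullback_homOfVector _ _ _ _ h1 t
  have e3 : aj ≫ AffineSpace.homOfVector p₀ t = (AffineSpace.homOfVector pj (aj.appTop ∘ t) ≫ w) ≫ pY := by
    rw [Category.assoc, hw, e2.w]
  have e4 : IsPullback (k2.lift _ _ e3) (AffineSpace.homOfVector pj (aj.appTop ∘ t)) fi w := by
    refine IsPullback.of_right (h₁₂ := pX) (h₂₂ := pY) ?_ (k2.lift_snd _ _ _) k2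
    rw [k2.lift_fst, hw]
    exact e2
  exact MorphismProperty.of_isPullback (P := @Etale) e4 k3

/-- The locus where some sections are invertible. -/
def locus {X : Scheme.{u}} {n : Type u} [Finite n] (t : n → Γ(X, ⊤)) (J : Set n) : X.Opens :=
  ⟨⋂ i : J, (X.basicOpen (t i) : Set X), isOpen_iInter_of_finite fun i => (X.basicOpen (t i)).2⟩

omit [SmallCategory I] [IsCofiltered I] hc in
theorem mem_locus {X : Scheme.{u}} {n : Type u} [Finite n] (t : n → Γ(X, ⊤)) (J : Set n) (x : X) :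
    x ∈ locus t J ↔ ∀ i ∈ J, x ∈ X.basicOpen (t i) := by
  change x ∈ ⋂ i : J, (X.basicOpen (t i) : Set X) ↔ _
  simp

omit [AlgebraicGeometry.IsNoetherian c.pt] in
theorem claim_leaf (X : Scheme.{u}) (f : X ⟶ c.pt) (V : X.Opens) (n : Type u) (hn : Finite n) (t : n → Γ(X, ⊤))
    (J : Set n) (h : Etale (AffineSpace.homOfVector f t)) (hV : ∀ x : X, x ∈ V ↔ ∀ i ∈ J, x ∈ X.basicOpen (t i)) :
    Claim D c X f V := by
  intro i₀ X₀ p₀ _ _ _ a hX V₀ hV₀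
  have hN0 : IsNoetherian X₀ := noeth_of_lft p₀
  obtain ⟨m, ⟨e⟩⟩ := Finite.exists_equiv_fin n
  obtain ⟨i₁, φ₁, X₁, r, p₁, a₁, h1, ha, hb, hsec⟩ := exists_stage hX
    (Ev.forall_finite fun k : Fin m => ev_section D c hX hc (t (e.symm k)))
  refine Concl.shift φ₁ r p₁ h1 ?_
  have hX₁ := isPullback_stage D c hX h1 ha hb
  choose z₁ hz₁ using hsec
  let t₁ : n → Γ(X₁, ⊤) := fun i => z₁ (e i)
  have ht₁ : a₁.appTop ∘ t₁ = t := by
    funext i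
    have := hz₁ (e i)
    rw [e.symm_apply_apply] at this
    exact this
  have hlfp : LocallyOfFinitePresentation p₁ :=
    MorphismProperty.of_isPullback (P := @LocallyOfFinitePresentation) h1 inferInstance
  have hqc : QuasiCompact p₁ := MorphismProperty.of_isPullback (P := @QuasiCompact) h1 inferInstance
  have hqs : QuasiSeparated p₁ := MorphismProperty.of_isPullback (P := @QuasiSeparated) h1 inferInstance
  have hN1 : IsNoetherian X₁ := noeth_of_lft p₁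
  have hloc : a₁ ⁻¹ᵁ locus t₁ J = a₁ ⁻¹ᵁ (r ⁻¹ᵁ V₀) := by
    rw [← Scheme.Hom.comp_preimage a₁ r, ha, hV₀]
    ext x
    rw [SetLike.mem_coe, SetLike.mem_coe, hV]
    change a₁ x ∈ locus t₁ J ↔ _
    rw [mem_locus]
    refine forall₂_congr fun i _ => ?_
    have h5 : (a₁ ⁻¹ᵁ X₁.basicOpen (t₁ i)) = X.basicOpen (t i) := by
      rw [Scheme.preimage_basicOpen_top]
      exact congrArg _ (congrFun ht₁ i)
    rw [← h5]
    exact Iff.rfl
  refine EvT.mono (EvT.and (evT_etale hc hX₁ t₁ (by rwa [ht₁]))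
    (EvT.of_ev hX₁.w (Ev.and (ev_le D c hX₁ hc (locus t₁ J) (r ⁻¹ᵁ V₀)
        (TopologicalSpace.NoetherianSpace.isCompact _) hloc.le)
      (ev_le D c hX₁ hc (r ⁻¹ᵁ V₀) (locus t₁ J) (TopologicalSpace.NoetherianSpace.isCompact _) hloc.ge)))) ?_
  rintro i φ Xi ai pi k1 ⟨m1, u, m2, m3⟩
  refine Tree.leaf Xi pi _ n hn (ai.appTop ∘ t₁) J m1 fun x => ?_
  rw [← le_antisymm m2 m3]
  change ai x ∈ locus t₁ J ↔ _
  rw [mem_locus]
  refine forall₂_congr fun i _ => ?_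
  have h5 : (ai ⁻¹ᵁ X₁.basicOpen (t₁ i)) = Xi.basicOpen ((ai.appTop ∘ t₁) i) := by
    rw [Scheme.preimage_basicOpen_top]
    rfl
  rw [← h5]
  exact Iff.rfl

omit [∀ (i j : I) (f : i ⟶ j), IsAffineHom (D.map f)] [∀ i, IsAffine (D.obj i)]
  [∀ i, AlgebraicGeometry.IsNoetherian (D.obj i)]
  [AlgebraicGeometry.IsNoetherian c.pt] hc in
/-- Children of a node. -/
theorem ev_children {i₁ : I} {X₁ X : Scheme.{u}} {p₁ : X₁ ⟶ D.obj i₁} [LocallyOfFinitePresentation p₁]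
    [QuasiCompact p₁] [QuasiSeparated p₁] {a₁ : X ⟶ X₁} {f : X ⟶ c.pt}
    (hX₁ : IsPullback a₁ f p₁ (c.π.app i₁)) (V₁ : X₁.Opens) {k : ℕ} (Y : Fin k → Scheme.{u})
    (g : ∀ t, Y t ⟶ X) (ih : ∀ t, Claim D c (Y t) (g t ≫ f) ((g t) ⁻¹ᵁ a₁ ⁻¹ᵁ V₁))
    (Y₁ : Fin k → Scheme.{u}) (g₁ : ∀ t, Y₁ t ⟶ X₁) (v₁ : ∀ t, Y t ⟶ Y₁ t)
    (m2 : ∀ t, LocallyOfFinitePresentation (g₁ t)) (m3 : ∀ t, QuasiCompact (g₁ t))
    (m4 : ∀ t, QuasiSeparated (g₁ t)) (m5 : ∀ t, IsPullback (v₁ t) (g t) (g₁ t) a₁) :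
    EvT D p₁ (fun i _ ai pi => ∀ t, Tree (D.obj i) (pullback (g₁ t) ai) (pullback.snd (g₁ t) ai ≫ pi)
      (pullback.snd (g₁ t) ai ⁻¹ᵁ ai ⁻¹ᵁ V₁)) := by
  refine EvT.forall_finite fun t => ?_
  have := m2 t
  have := m3 t
  have := m4 t
  have h := ih t i₁ (Y₁ t) (g₁ t ≫ p₁) inferInstance inferInstance inferInstance (v₁ t)
    ((m5 t).paste_vert hX₁) (g₁ t ⁻¹ᵁ V₁) (by
      rw [← Scheme.Hom.comp_preimage, (m5 t).w, Scheme.Hom.comp_preimage])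
  refine EvT.mono (EvT.over (g₁ t) h) ?_
  intro i φ Xi ai pi n1 n2
  have n3 := n2 _ _ _ (IsPullback.of_hasPullback (g₁ t) ai)
  rw [← Scheme.Hom.comp_preimage, pullback.condition, Scheme.Hom.comp_preimage] at n3
  exact n3

/-- Étale nodes. -/
theorem claim_etale {X : Scheme.{u}} (f : X ⟶ c.pt) (V : X.Opens) {k : ℕ} (Y : Fin k → Scheme.{u})
    (g : ∀ a, Y a ⟶ X) (h1 : ∀ a, Etale (g a)) (h2 : ∀ a, QuasiCompact (g a))
    (h3 : ∀ x : X, ∃ a, x ∈ Set.range (g a))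
    (ih : ∀ a, Claim D c (Y a) (g a ≫ f) ((g a) ⁻¹ᵁ V)) : Claim D c X f V := by
  intro i₀ X₀ p₀ _ _ _ a hX V₀ hV₀
  have hN0 : IsNoetherian X₀ := noeth_of_lft p₀
  have hb1 : LocallyOfFinitePresentation f :=
    MorphismProperty.of_isPullback (P := @LocallyOfFinitePresentation) hX inferInstance
  have hb2 : QuasiCompact f := MorphismProperty.of_isPullback (P := @QuasiCompact) hX inferInstance
  have hNX : IsNoetherian X := noeth_of_lft f
  have hNY : ∀ t, IsNoetherian (Y t) := fun t => by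
    have := h1 t
    have := h2 t
    exact noeth_of_lft (g t)
  obtain ⟨i₁, φ₁, X₁, r, p₁, a₁, k1, ha, hb, hch⟩ := exists_stage hX
    (Ev.forall_finite fun t : Fin k => by
      have := h1 t
      have := h2 t
      exact ev_etale D c hX hc (g t))
  refine Concl.shift φ₁ r p₁ k1 ?_
  have hX₁ := isPullback_stage D c hX k1 ha hb
  have hlfp : LocallyOfFinitePresentation p₁ :=
    MorphismProperty.of_isPullback (P := @LocallyOfFinitePresentation) k1 inferInstance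
  have hqc : QuasiCompact p₁ := MorphismProperty.of_isPullback (P := @QuasiCompact) k1 inferInstance
  have hqs : QuasiSeparated p₁ := MorphismProperty.of_isPullback (P := @QuasiSeparated) k1 inferInstance
  have hNX₁ : IsNoetherian X₁ := noeth_of_lft p₁
  choose Y₁ g₁ v₁ m1 m2 m3 m4 m5 using hch
  have hVr : a₁ ⁻¹ᵁ (r ⁻¹ᵁ V₀) = V := by
    rw [← Scheme.Hom.comp_preimage a₁ r, ha, hV₀]
  have hchild := ev_children hX₁ (r ⁻¹ᵁ V₀) Y g (fun t => by rw [hVr]; exact ih t) Y₁ g₁ v₁ m2 m3 m4 m5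
  -- surjectivity
  let U : X₁.Opens := ⟨⋃ t, Set.range (g₁ t), isOpen_iUnion fun t => by
    have := m1 t
    exact (g₁ t).isOpenMap.isOpen_range⟩
  have hU : a₁ ⁻¹ᵁ ⊤ ≤ a₁ ⁻¹ᵁ U := by
    intro x _
    obtain ⟨t, y, hy⟩ := h3 x
    refine Set.mem_iUnion.mpr ⟨t, v₁ t y, ?_⟩
    rw [← Scheme.Hom.comp_apply, (m5 t).w, Scheme.Hom.comp_apply, hy]
  refine EvT.mono (EvT.and hchild (EvT.of_ev hX₁.w
    (ev_le D c hX₁ hc ⊤ U (TopologicalSpace.NoetherianSpace.isCompact _) hU))) ?_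
  rintro i φ Xi ai pi n1 ⟨hQ, u, hsurj⟩
  refine Tree.etale pi _ (fun t => pullback (g₁ t) ai) (fun t => pullback.snd (g₁ t) ai) (fun t => ?_)
    (fun t => ?_) (fun x => ?_) hQ
  · exact MorphismProperty.of_isPullback (P := @Etale) (.of_hasPullback _ _) (m1 t)
  · exact MorphismProperty.of_isPullback (P := @QuasiCompact) (.of_hasPullback _ _) (m3 t)
  · have hx : x ∈ ai ⁻¹ᵁ U := hsurj (show x ∈ ai ⁻¹ᵁ (⊤ : X₁.Opens) from trivial)
    obtain ⟨t, y, hy⟩ := Set.mem_iUnion.mp hx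
    obtain ⟨y', hy1, hy2⟩ := Scheme.exists_preimage_of_isPullback
      (IsPullback.of_hasPullback (g₁ t) ai) y x hy
    exact ⟨t, y', hy2⟩

/-- Proper nodes. -/
theorem claim_proper {X : Scheme.{u}} (f : X ⟶ c.pt) (V : X.Opens) {k : ℕ} (Y : Fin k → Scheme.{u})
    (g : ∀ a, Y a ⟶ X) (h1 : ∀ a, IsProper (g a)) (h3 : ∀ x ∈ V, ∃ a, x ∈ Set.range (g a))
    (ih : ∀ a, Claim D c (Y a) (g a ≫ f) ((g a) ⁻¹ᵁ V)) : Claim D c X f V := by
  intro i₀ X₀ p₀ _ _ _ a hX V₀ hV₀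
  have hN0 : IsNoetherian X₀ := noeth_of_lft p₀
  have hb1 : LocallyOfFinitePresentation f :=
    MorphismProperty.of_isPullback (P := @LocallyOfFinitePresentation) hX inferInstance
  have hb2 : QuasiCompact f := MorphismProperty.of_isPullback (P := @QuasiCompact) hX inferInstance
  have hNX : IsNoetherian X := noeth_of_lft f
  have hNY : ∀ t, IsNoetherian (Y t) := fun t => by
    have := h1 t
    exact noeth_of_lft (g t)
  obtain ⟨i₁, φ₁, X₁, r, p₁, a₁, k1, ha, hb, hch⟩ := exists_stage hX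
    (Ev.forall_finite fun t : Fin k => by
      have := h1 t
      have : LocallyOfFinitePresentation (g t) :=
        LocallyOfFinitePresentation.iff_locallyOfFiniteType.mpr inferInstance
      exact ev_proper D c hX hc (g t))
  refine Concl.shift φ₁ r p₁ k1 ?_
  have hX₁ := isPullback_stage D c hX k1 ha hb
  have hlfp : LocallyOfFinitePresentation p₁ :=
    MorphismProperty.of_isPullback (P := @LocallyOfFinitePresentation) k1 inferInstance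
  have hqc : QuasiCompact p₁ := MorphismProperty.of_isPullback (P := @QuasiCompact) k1 inferInstance
  have hqs : QuasiSeparated p₁ := MorphismProperty.of_isPullback (P := @QuasiSeparated) k1 inferInstance
  have hNX₁ : IsNoetherian X₁ := noeth_of_lft p₁
  choose Y₁ g₁ v₁ m1 m2 m3 m4 m5 using hch
  have hVr : a₁ ⁻¹ᵁ (r ⁻¹ᵁ V₀) = V := by
    rw [← Scheme.Hom.comp_preimage a₁ r, ha, hV₀]
  have hchild := ev_children hX₁ (r ⁻¹ᵁ V₀) Y g (fun t => by rw [hVr]; exact ih t) Y₁ g₁ v₁ m2 m3 m4 m5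
  -- surjectivity over `V`
  have hclosed : IsClosed (⋃ t, Set.range (g₁ t)) :=
    isClosed_iUnion_of_finite fun t => by
      have := m1 t
      exact (g₁ t).isClosedMap.isClosed_range
  let U : X₁.Opens := ⟨(r ⁻¹ᵁ V₀ : Set X₁) ∩ (⋃ t, Set.range (g₁ t))ᶜ, (r ⁻¹ᵁ V₀).2.inter hclosed.isOpen_compl⟩
  have hU : a₁ ⁻¹ᵁ U ≤ a₁ ⁻¹ᵁ ⊥ := by
    intro x hx
    exfalso
    have hx1 : a₁ x ∈ r ⁻¹ᵁ V₀ := hx.1
    have hx2 : a₁ x ∉ ⋃ t, Set.range (g₁ t) := hx.2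
    have hxV : x ∈ V := by
      rw [← hVr]
      exact hx1
    obtain ⟨t, y, hy⟩ := h3 x hxV
    refine hx2 (Set.mem_iUnion.mpr ⟨t, v₁ t y, ?_⟩)
    rw [← Scheme.Hom.comp_apply, (m5 t).w, Scheme.Hom.comp_apply, hy]
  refine EvT.mono (EvT.and hchild (EvT.of_ev hX₁.w
    (ev_le D c hX₁ hc U ⊥ (TopologicalSpace.NoetherianSpace.isCompact _) hU))) ?_
  rintro i φ Xi ai pi n1 ⟨hQ, u, hsurj⟩
  refine Tree.proper pi _ (fun t => pullback (g₁ t) ai) (fun t => pullback.snd (g₁ t) ai) (fun t => ?_)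
    (fun x hx => ?_) hQ
  · exact MorphismProperty.of_isPullback (P := @IsProper) (.of_hasPullback _ _) (m1 t)
  · by_contra hc'
    push Not at hc'
    have h6 : x ∈ ai ⁻¹ᵁ U := by
      refine ⟨hx, fun h7 => ?_⟩
      obtain ⟨t, y, hy⟩ := Set.mem_iUnion.mp h7
      obtain ⟨y', hy1, hy2⟩ := Scheme.exists_preimage_of_isPullback
        (IsPullback.of_hasPullback (g₁ t) ai) y x hy
      exact hc' t ⟨y', hy2⟩
    exact hsurj h6

/-- Relative certificates descend to large stages. -/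
theorem claim_of_tree {X : Scheme.{u}} {f : X ⟶ c.pt} {V : X.Opens} (h : Tree c.pt X f V) : Claim D c X f V := by
  induction h with
  | leaf X f V n hn t J h hV => exact claim_leaf hc X f V n hn t J h hV
  | etale f V Y g h1 h2 h3 h ih => exact claim_etale hc f V Y g h1 h2 h3 ih
  | proper f V Y g h1 h3 h ih => exact claim_proper hc f V Y g h1 h3 ih

end Main

/-- TREE-SPREAD. Certificates over a limit come from a finite stage. -/
theorem spread [IsCofiltered I] (D : I ⥤ Scheme.{u}) (c : Cone D)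
    [∀ (i j : I) (f : i ⟶ j), IsAffineHom (D.map f)] [∀ i, IsAffine (D.obj i)] [∀ i, IsNoetherian (D.obj i)]
    [IsAffine c.pt] [IsNoetherian c.pt] (hc : IsLimit c) {X : Scheme.{u}} {f : X ⟶ c.pt} {V : X.Opens}
    (h : Tree c.pt X f V) (i₀ : I) (X₀ : Scheme.{u}) (p₀ : X₀ ⟶ D.obj i₀) [LocallyOfFinitePresentation p₀]
    [QuasiCompact p₀] [QuasiSeparated p₀] (a : X ⟶ X₀) (hX : IsPullback a f p₀ (c.π.app i₀)) (V₀ : X₀.Opens)
    (hV : a ⁻¹ᵁ V₀ = V) :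
    ∃ (i₁ : I) (φ : i₁ ⟶ i₀), ∀ (i : I) (ψ : i ⟶ i₁) (Xi : Scheme.{u}) (ai : Xi ⟶ X₀) (pi : Xi ⟶ D.obj i),
      IsPullback ai pi p₀ (D.map (ψ ≫ φ)) → Tree (D.obj i) Xi pi (ai ⁻¹ᵁ V₀) :=
  claim_of_tree hc h i₀ X₀ p₀ inferInstance inferInstance inferInstance a hX V₀ hV

end K922.TreeSpread
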